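import Mathlib.RingTheory.OrderOfVanishing.Basic
import Mathlib.RingTheory.LocalRing.Length
import Mathlib.RingTheory.DiscreteValuationRing.Basic
import Mathlib.FieldTheory.IsAlgClosed.Basic
import Mathlib.RingTheory.LocalRing.ResidueField.Basic
import Mathlib.RingTheory.Algebraic.Integral
import Mathlib.LinearAlgebra.FreeModule.PID
import Mathlib.RingTheory.TensorProduct.Free

/-!
# The rank of a finite local domain over a discrete valuation ring as a sum of orders
-/

set_option autoImplicit false
set_option maxHeartbeats 800000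
universe u

open IsLocalRing
open scoped TensorProduct

namespace PointMultLib

theorem ord_prod {S : Type u} [CommRing S] [IsDomain S] {ι : Type*} (s : Finset ι) (g : ι → S)
    (hg : ∀ i ∈ s, g i ≠ 0) : Ring.ord S (∏ i ∈ s, g i) = ∑ i ∈ s, Ring.ord S (g i) := by
  classical
  induction s using Finset.induction_on with
  | empty => simp
  | @insert i t hi ih =>
    rw [Finset.prod_insert hi, Finset.sum_insert hi, Ring.ord_mul,
      ih fun j hj => hg j (Finset.mem_insert_of_mem hj)]
    exact mem_nonZeroDivisors_of_ne_zero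
      (Finset.prod_ne_zero_iff.2 fun j hj => hg j (Finset.mem_insert_of_mem hj))

theorem ord_pow {S : Type u} [CommRing S] [IsDomain S] {x : S} (hx : x ≠ 0) (m : ℕ) :
    Ring.ord S (x ^ m) = m * Ring.ord S x := by
  induction m with
  | zero => simp
  | succ m ih => rw [pow_succ, Ring.ord_mul S (mem_nonZeroDivisors_of_ne_zero hx), ih, Nat.cast_succ, add_mul, one_mul]

theorem finrank_eq_sum {R : Type u} [CommRing R] [IsDomain R] [IsDiscreteValuationRing R]
    [IsAlgClosed (ResidueField R)] {S : Type u} [CommRing S] [IsDomain S] [IsLocalRing S] [Algebra R S]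
    [Module.Finite R S] (hinj : Function.Injective (algebraMap R S)) {n : ℕ} (g : Fin n → S) (m : Fin n → ℕ)
    (hg : ∀ i, g i ∈ maximalIdeal S) {ϖ : R} (hϖ : Irreducible ϖ)
    (h : Associated (algebraMap R S ϖ) (∏ i, g i ^ m i)) :
    ∃ c : Fin n → ℕ, (∀ i, 1 ≤ c i) ∧ Module.finrank R S = ∑ i, c i * m i := by
  classical
  haveI : Algebra.IsIntegral R S := Algebra.IsIntegral.of_finite R S
  haveI hloc : IsLocalHom (algebraMap R S) :=
    RingHom.IsIntegral.isLocalHom (algebraMap_isIntegral_iff.2 ‹_›) hinj
  haveI : Module.IsTorsionFree R S := by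
    haveI : FaithfulSMul R S := (faithfulSMul_iff_algebraMap_injective R S).2 hinj
    infer_instance
  -- the length of the closed fibre
  let k := ResidueField R
  have hlen : Module.length R (S ⧸ Ideal.span {algebraMap R S ϖ}) = Module.finrank R S := by
    have h1 : Module.length R (S ⧸ (maximalIdeal R • ⊤ : Submodule R S)) = Module.finrank R S := by
      rw [← (TensorProduct.quotTensorEquivQuotSMul S (maximalIdeal R)).length_eq,
        show Module.length R ((R ⧸ maximalIdeal R) ⊗[R] S) = Module.length R (k ⊗[R] S) from rfl,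
        Module.length_eq_of_surjective (S := R) (R := k) (M := k ⊗[R] S) residue_surjective,
        Module.length_eq_finrank k (k ⊗[R] S), Module.finrank_baseChange]
    rw [← h1]
    refine LinearEquiv.length_eq ((Submodule.Quotient.restrictScalarsEquiv R _).symm.trans
      (Submodule.quotEquivOfEq _ _ ?_))
    rw [Ideal.smul_top_eq_map, hϖ.maximalIdeal_eq, Ideal.map_span, Set.image_singleton]
  have hres : Module.length k (ResidueField S) = 1 := by
    haveI : Algebra.IsIntegral k (ResidueField S) := Algebra.IsIntegral.tower_top (R := R)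
    have hb : Function.Bijective (algebraMap k (ResidueField S)) :=
      IsAlgClosed.algebraMap_bijective_of_isIntegral
    rw [← (LinearEquiv.ofBijective (Algebra.linearMap k (ResidueField S)) hb).length_eq]
    simp [Module.length_eq_one]
  have hord : Ring.ord S (algebraMap R S ϖ) = Module.finrank R S := by
    rw [← hlen, Ring.ord, IsLocalRing.length_restrictScalars R S (S ⧸ Ideal.span {algebraMap R S ϖ}), hres, mul_one]
  have hπ0 : algebraMap R S ϖ ≠ 0 := fun h0 => hϖ.ne_zero (hinj (h0.trans (map_zero _).symm))
  have hne : ∀ i, 0 < m i → g i ≠ 0 := fun i hi h0 => by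
    refine hπ0 (h.eq_zero_iff.2 (Finset.prod_eq_zero (Finset.mem_univ i) ?_))
    rw [h0, zero_pow hi.ne']
  have hp : ∀ i, g i ^ m i ≠ 0 := fun i => by
    rcases Nat.eq_zero_or_pos (m i) with hm | hm
    · rw [hm, pow_zero]; exact one_ne_zero
    · exact pow_ne_zero _ (hne i hm)
  have hsum : (Module.finrank R S : ℕ∞) = ∑ i, Ring.ord S (g i ^ m i) := by
    rw [← hord, ← ord_prod _ _ fun i _ => hp i, Ring.ord, Ring.ord, Ideal.span_singleton_eq_span_singleton.2 h]
  have hfin : ∀ i, Ring.ord S (g i ^ m i) ≠ ⊤ := fun i htop => by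
    have hle : Ring.ord S (g i ^ m i) ≤ (Module.finrank R S : ℕ∞) :=
      hsum ▸ Finset.single_le_sum (f := fun i => Ring.ord S (g i ^ m i)) (fun _ _ => zero_le) (Finset.mem_univ i)
    rw [htop] at hle
    exact absurd (top_le_iff.1 hle) (ENat.coe_ne_top _)
  refine ⟨fun i => if m i = 0 then 1 else (Ring.ord S (g i)).toNat, fun i => ?_, ?_⟩
  · dsimp only
    split_ifs with hm
    · rfl
    · have hf := hfin i
      rw [ord_pow (hne i (Nat.pos_of_ne_zero hm))] at hf
      refine Nat.one_le_iff_ne_zero.2 fun h0 => ?_
      rcases ENat.toNat_eq_zero.1 h0 with h1 | h1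
      · rw [Ring.ord, Module.length_eq_zero_iff, Ideal.Quotient.subsingleton_iff, Ideal.span_singleton_eq_top] at h1
        exact hg i h1
      · exact hf (by rw [h1, ENat.mul_top]; exact_mod_cast hm)
  · have h2 := congrArg ENat.toNat hsum
    rw [ENat.toNat_coe] at h2
    rw [h2, show ENat.toNat (∑ i, Ring.ord S (g i ^ m i)) = ∑ i, ENat.toNat (Ring.ord S (g i ^ m i)) by
      have h3 : (∑ i, Ring.ord S (g i ^ m i)) = ((∑ i, ENat.toNat (Ring.ord S (g i ^ m i)) : ℕ) : ℕ∞) := by
        rw [Nat.cast_sum]
        exact Finset.sum_congr rfl fun i _ => (ENat.coe_toNat (hfin i)).symm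
      rw [h3, ENat.toNat_coe]]
    refine Finset.sum_congr rfl fun i _ => ?_
    dsimp only
    split_ifs with hm
    · simp [hm, Ring.ord_one]
    · rw [ord_pow (hne i (Nat.pos_of_ne_zero hm)), ENat.toNat_mul, ENat.toNat_coe, mul_comm]

/-- The rank of a finite domain is the degree of its fraction field. -/
theorem finrank_fraction {R K S L : Type u} [CommRing R] [IsDomain R] [Field K] [Algebra R K] [IsFractionRing R K]
    [CommRing S] [IsDomain S] [Algebra R S] [Module.Finite R S] (hinj : Function.Injective (algebraMap R S))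
    [Field L] [Algebra R L] [Algebra S L] [IsFractionRing S L] [IsScalarTower R S L] [Algebra K L]
    [IsScalarTower R K L] : Module.finrank K L = Module.finrank R S := by
  haveI : FaithfulSMul R S := (faithfulSMul_iff_algebraMap_injective R S).2 hinj
  haveI : Algebra.IsIntegral R S := Algebra.IsIntegral.of_finite R S
  exact congrArg Cardinal.toNat (Algebra.IsAlgebraic.rank_of_isFractionRing R K S L)

end PointMultLib
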