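import Groth.Agent.PointMultLib.Alg
import Groth.Agent.VertIntLib.Exists
import Groth.Agent.FibDimLib.TopLocalDim
import Groth.Prelude.Def_CurvBase
import Groth.Prelude.Def_Curve
import Mathlib.AlgebraicGeometry.Morphisms.QuasiFinite

/-!
# The degree of a closed point of the generic fibre through the multiplicities of the components
-/

set_option autoImplicit false
set_option backward.isDefEq.respectTransparency false
set_option linter.style.haveILetI false
set_option maxHeartbeats 1000000
universe u
open AlgebraicGeometry CategoryTheory CategoryTheory.Limits TopologicalSpace Topology IsLocalRing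
open EquidimLib (stalkPt)
open CycDivLib (primeOf stalkPt_primeOf)

noncomputable section

attribute [local instance] Curv2.resAlgebra

namespace PointMultLib

/-- Three points in specialisation need dimension two. -/
theorem no_three {A : Type u} [TopologicalSpace A] [T0Space A] [QuasiSober A]
    (hd : topologicalKrullDim A ≤ 1) {a b c : A} (hab : a ⤳ b) (hbc : b ⤳ c) (h1 : a ≠ b) (h2 : b ≠ c) : False := by
  let F : A → IrreducibleCloseds A := fun x => ⟨closure {x}, isIrreducible_singleton.closure, isClosed_closure⟩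
  have hlt : ∀ {x y : A}, x ⤳ y → x ≠ y → F y < F x := fun {x y} h hne =>
    lt_of_le_of_ne (closure_minimal (Set.singleton_subset_iff.2 (specializes_iff_mem_closure.1 h)) isClosed_closure)
      fun he => hne (h.antisymm (specializes_iff_mem_closure.2 (he ▸ subset_closure rfl : x ∈ (F y : Set A)))).eq
  let s : LTSeries (IrreducibleCloseds A) :=
    ((RelSeries.singleton _ (F c)).snoc (F b) (hlt hbc h2)).snoc (F a) (by simpa using hlt hab h1)
  have hs : s.length = 2 := rfl
  have h := (Order.LTSeries.length_le_krullDim s).trans hd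
  rw [hs] at h
  exact absurd h (by decide)

variable {R : Type u} [CommRing R] [IsDomain R] [IsDiscreteValuationRing R]
  {X : Over (Spec (CommRingCat.of R))} [IsIntegral X.left] [Flat X.hom] [LocallyOfFiniteType X.hom]

/-- The fibre dimension at the generic point of a model of a curve. -/
theorem fibreDim_le_one {K : Type u} [Field K] {C : Scheme.{u}} {f : C ⟶ Spec (CommRingCat.of K)}
    (hdim : topologicalKrullDim C ≤ 1) {v : Spec (CommRingCat.of K) ⟶ Spec (CommRingCat.of R)} {g : C ⟶ X.left}
    (hg : IsPullback g f X.hom v) (hη : genericPoint X.left ∈ Set.range g) :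
    FlatMor.fibreDimAt X.hom (genericPoint X.left) ≤ 1 := by
  obtain ⟨c, hc⟩ := hη
  rw [← hc, ← FibDimLib.fibreDimAt_baseChange hg c]
  refine (FibDimLib.localDim_le _).trans (le_trans ?_ hdim)
  exact Topology.IsInducing.topologicalKrullDim_le (f.fiberι (f c)).isEmbedding.isInducing

omit [IsIntegral X.left] [Flat X.hom] [LocallyOfFiniteType X.hom] in
/-- A point of the closed fibre lies on a component. -/
theorem exists_maximal_irr {z : X.left} (hz : X.hom z = closedPoint R) :
    ∃ Z ∈ Models.fibreComponents R X, z ∈ Z := by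
  obtain ⟨T, hT, hle, hmax⟩ := exists_preirreducible (X := ↥(Models.specialFibreSet R X)) _
    (isPreirreducible_singleton (x := (⟨z, hz⟩ : Models.specialFibreSet R X)))
  have hzT : (⟨z, hz⟩ : Models.specialFibreSet R X) ∈ T := hle rfl
  have hTi : IsIrreducible T := ⟨⟨_, hzT⟩, hT⟩
  refine ⟨Subtype.val '' T, ⟨⟨hTi.image _ continuous_subtype_val.continuousOn, Subtype.coe_image_subset _ _⟩,
    fun S hS hTS => ?_⟩, ⟨_, hzT, rfl⟩⟩
  have hp : IsPreirreducible (Subtype.val ⁻¹' S : Set (Models.specialFibreSet R X)) :=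
    VertIntLib.isPreirreducible_of_image IsInducing.subtypeVal (by
      rw [Subtype.image_preimage_coe, Set.inter_eq_right.2 hS.2]; exact hS.1.isPreirreducible)
  have he := hmax _ hp (fun t ht => hTS ⟨t, ht, rfl⟩)
  intro s hs
  exact ⟨⟨s, hS.2 hs⟩, he ▸ hs, rfl⟩

/-- Every vertical prime divisor is a component. -/
theorem isFibGen_genPt (hd : FlatMor.fibreDimAt X.hom (genericPoint X.left) ≤ 1) (Γ : ArSurf.VertComp R X) :
    VertIntLib.IsFibGen (Models.genPtOf R X Γ) := by
  haveI : IsLocallyNoetherian X.left := LocallyOfFiniteType.isLocallyNoetherian X.hom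
  intro z hz hzγ
  by_contra hne
  obtain ⟨c, hc⟩ : ∃ c, c ≠ genericPoint Γ.curve.left := by
    by_contra! hall
    haveI : Subsingleton ↥Γ.curve.left := ⟨fun a b => (hall a).trans (hall b).symm⟩
    have := topologicalKrullDim_zero_of_discreteTopology (X := ↥Γ.curve.left)
    rw [Γ.dim_eq] at this
    exact (not_le.2 zero_lt_one) this
  -- a generic point of the closed fibre above `z`
  have hcl : IsClosed (Models.specialFibreSet R X) := Models.isClosed_specialFibreSet R X
  obtain ⟨Z, hZ, hzZ⟩ := exists_maximal_irr (R := R) (X := X) hz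
  obtain ⟨w, hw, hwg, rfl⟩ := VertIntLib.exists_of_mem_fibreComponents hZ
  have hwz : w ⤳ z := specializes_iff_mem_closure.2 hzZ
  have hdw : topologicalKrullDim (closure ({w} : Set X.left)) ≤ 1 := (VertIntLib.dim_closure hw hwg).trans_le hd
  set A := closure ({w} : Set X.left)
  haveI : QuasiSober A := (isClosed_closure.isClosedEmbedding_subtypeVal).quasiSober
  have hγc : Models.genPtOf R X Γ ⤳ Γ.ι c :=
    ((genericPoint_spec Γ.curve.left).specializes trivial).map Γ.ι.continuous
  have hwγ : w ⤳ Models.genPtOf R X Γ := hwz.trans hzγ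
  have hne₁ : Models.genPtOf R X Γ ≠ Γ.ι c := fun h => hc (Γ.ι.isEmbedding.injective h).symm
  have hne₂ : w ≠ Models.genPtOf R X Γ := fun h => hne (by
    have h1 : z ⤳ w := h ▸ hzγ
    exact ((hwz.antisymm h1).eq.symm).trans h)
  exact no_three hdw (a := (⟨w, subset_closure rfl⟩ : A))
    (b := ⟨Models.genPtOf R X Γ, specializes_iff_mem_closure.1 hwγ⟩)
    (c := ⟨Γ.ι c, specializes_iff_mem_closure.1 (hwγ.trans hγc)⟩)
    ((subtype_specializes_iff _ _).2 hwγ) ((subtype_specializes_iff _ _).2 hγc)
    (fun h => hne₂ (congrArg Subtype.val h)) (fun h => hne₁ (congrArg Subtype.val h))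

variable (hreg : ∀ x : X.left, IsRegularLocalRing (X.left.presheaf.stalk x))

include hreg in
/-- The uniformiser in the local ring of a point of the closed fibre. -/
theorem exists_factor (hd : FlatMor.fibreDimAt X.hom (genericPoint X.left) ≤ 1) {ϖ : R} (hϖ : Irreducible ϖ)
    (x : X.left) {n : ℕ} (Γ : Fin n → ArSurf.VertComp R X)
    (hinj : Function.Injective fun i => Set.range ((Γ i).ι.base : (Γ i).curve.left → X.left))
    (hΓ : ∀ Z ∈ Models.fibreComponents R X,
      x ∈ Z ↔ ∃ i, Set.range ((Γ i).ι.base : (Γ i).curve.left → X.left) = Z) :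
    ∃ g : Fin n → X.left.presheaf.stalk x, (∀ i, g i ∈ maximalIdeal _) ∧
      Associated (Models.stalkHom R X x ϖ) (∏ i, g i ^ Models.mult R X (Γ i)) := by
  classical
  haveI : IsLocallyNoetherian X.left := LocallyOfFiniteType.isLocallyNoetherian X.hom
  have hϖ' : maximalIdeal R = Ideal.span {ϖ} := hϖ.maximalIdeal_eq
  have hg := fun i => isFibGen_genPt hd (Γ i)
  have hsp : ∀ i, Models.genPtOf R X (Γ i) ⤳ x := fun i => by
    rw [specializes_iff_mem_closure]
    exact (hΓ _ (VertIntLib.closure_mem_fibreComponents (VertIntLib.genPt_over (Γ i)) (hg i))).2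
      ⟨i, VertIntLib.range_eq_closure (Γ i)⟩
  have hinj' : ∀ i j, Models.genPtOf R X (Γ i) = Models.genPtOf R X (Γ j) → i = j := fun i j h => hinj (by
    dsimp only
    rw [VertIntLib.range_eq_closure, VertIntLib.range_eq_closure, h])
  set A := X.left.presheaf.stalk x
  obtain ⟨hdom, hufd⟩ := VertIntLib.ufd_stalk hreg x
  have hgen : ∀ i, ∃ g : A, IntMult.stalkIdeal (Γ i).ι.ker x = Ideal.span {g} := fun i => by
    obtain ⟨U, hxU, t, -, hf⟩ := VertIntLib.isEffCartier_ker hreg (Γ i) (hg i) x
    exact ⟨_, by rw [SDivLib.stalkIdeal_eq _ U hxU, hf, Ideal.map_span, Set.image_singleton]⟩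
  choose g hg' using hgen
  have hπ := VertIntLib.pi_ne_zero x hϖ'
  obtain ⟨e, he⟩ := VertIntLib.exists_assoc_prod g hπ fun p hp hdvd => by
    haveI hP : (Ideal.span {p}).IsPrime := (Ideal.span_singleton_prime hp.ne_zero).2 hp
    have hz := (VertIntLib.pi_mem_iff x ⟨_, hP⟩ hϖ').1 (Ideal.mem_span_singleton.2 hdvd)
    have hfg : VertIntLib.IsFibGen (stalkPt x ⟨_, hP⟩) := fun z' hz' hzz' => by
      obtain ⟨q, rfl⟩ := EquidimLib.exists_stalkPt (hzz'.trans (EquidimLib.stalkPt_specializes x _))
      have hqp : q.asIdeal ≤ Ideal.span {p} := EquidimLib.le_of_stalkPt hzz'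
      have hπq := (VertIntLib.pi_mem_iff x q hϖ').2 hz'
      obtain ⟨p', hp'q, hp'⟩ := Ideal.IsPrime.exists_mem_prime_of_ne_bot q.isPrime
        (fun h => hπ (Ideal.mem_bot.1 (h ▸ hπq)))
      have hass : Associated p p' := hp.associated_of_dvd hp' (Ideal.mem_span_singleton.1 (hqp hp'q))
      refine congrArg (stalkPt x) (PrimeSpectrum.ext (le_antisymm hqp ?_))
      show Ideal.span {p} ≤ q.asIdeal
      exact (Ideal.span_singleton_eq_span_singleton.2 hass).trans_le ((Ideal.span_singleton_le_iff_mem _).2 hp'q)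
    have hzx := EquidimLib.stalkPt_specializes x ⟨_, hP⟩
    obtain ⟨i, hi⟩ := (hΓ _ (VertIntLib.closure_mem_fibreComponents hz hfg)).1 (specializes_iff_mem_closure.1 hzx)
    have hi' : Models.genPtOf R X (Γ i) = stalkPt x ⟨_, hP⟩ :=
      IsGenericPoint.eq (S := closure ({stalkPt x ⟨_, hP⟩} : Set X.left))
        (by show closure {Models.genPtOf R X (Γ i)} = _; rw [← VertIntLib.range_eq_closure]; exact hi) rfl
    refine ⟨i, Ideal.span_singleton_eq_span_singleton.1 ?_⟩
    rw [← hg' i, VertIntLib.stalkIdeal_ker_eq (Γ i) (hsp i)]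
    exact congrArg PrimeSpectrum.asIdeal
      (EquidimLib.stalkPt_injective x (hi'.symm.trans (stalkPt_primeOf (hsp i)).symm) : (⟨_, hP⟩ : PrimeSpectrum A) = _)
  refine ⟨g, fun i => ?_, ?_⟩
  · have h1 : IntMult.stalkIdeal (Γ i).ι.ker x ≠ ⊤ :=
      (VertIntLib.stalkIdeal_ker_eq (Γ i) (hsp i)).trans_ne (primeOf (hsp i)).isPrime.ne_top
    rw [hg'] at h1
    exact (Ideal.span_singleton_le_iff_mem _).1 (le_maximalIdeal h1)
  have hspan : Ideal.span {Models.stalkHom R X x ϖ} = ∏ i, IntMult.stalkIdeal (Γ i).ι.ker x ^ e i := by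
    rw [Ideal.span_singleton_eq_span_singleton.2 he, ← Ideal.prod_span_singleton]
    exact Finset.prod_congr rfl fun i _ => by rw [hg', Ideal.span_singleton_pow]
  suffices hm : ∀ j, Models.mult R X (Γ j) = e j by simpa only [hm] using he
  intro j
  refine VertIntLib.mult_eq hreg (Γ j) (hg j) hϖ' ?_
  set sp := (X.left.presheaf.stalkSpecializes (hsp j)).hom
  have e1 : sp (Models.stalkHom R X x ϖ) = Models.stalkHom R X (Models.genPtOf R X (Γ j)) ϖ :=
    TopCat.Presheaf.germ_stalkSpecializes_apply X.left.presheaf (U := ⊤) trivial (hsp j) _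
  have e2 : ∀ i, (IntMult.stalkIdeal (Γ i).ι.ker x).map sp =
      if i = j then maximalIdeal _ else ⊤ := fun i => by
    rw [← DiagTorLib.stalkIdeal_specializes (Γ i).ι.ker (hsp j)]
    split_ifs with hij
    · subst hij
      rw [VertIntLib.stalkIdeal_ker_eq (Γ i) (specializes_refl _)]
      exact (CycDivLib.map_primeOf (specializes_refl (Models.genPtOf R X (Γ i)))).symm ▸ by
        rw [show X.left.presheaf.stalkSpecializes (specializes_refl (Models.genPtOf R X (Γ i))) = 𝟙 _ from
          TopCat.Presheaf.stalkSpecializes_refl _ _]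
        simp
    · exact VertIntLib.stalkIdeal_ker_top (Γ i) fun h => hij (hinj' _ _ (hg j _ (VertIntLib.genPt_over (Γ i)) h))
  rw [← e1, ← Set.image_singleton, ← Ideal.map_span, hspan, ← Ideal.mapHom_apply, map_prod,
    Finset.prod_eq_single j]
  · rw [map_pow, Ideal.mapHom_apply, e2, if_pos rfl]
  · intro i _ hij
    rw [map_pow, Ideal.mapHom_apply, e2, if_neg hij, ← Ideal.one_eq_top, one_pow]
  · exact fun h => absurd (Finset.mem_univ j) h

end PointMultLib
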