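import Groth.Agent.PointMultLib.Geo
import Mathlib.AlgebraicGeometry.Morphisms.Finite
import Mathlib.AlgebraicGeometry.Morphisms.Preimmersion
import Mathlib.AlgebraicGeometry.FunctionField

/-!
# Degrees of closed points of the generic fibre of a regular model
-/

set_option autoImplicit false
set_option backward.isDefEq.respectTransparency false
set_option linter.style.haveILetI false
set_option maxHeartbeats 1000000
universe u
open AlgebraicGeometry CategoryTheory CategoryTheory.Limits TopologicalSpace Topology IsLocalRing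

noncomputable section

attribute [local instance] Curv2.resAlgebra

namespace PointMultLib

/-- Residue fields along two preimmersions meeting at a point. -/
theorem exists_residueEquiv {A B Z : Scheme.{u}} (a : A ⟶ Z) [IsPreimmersion a] (b : B ⟶ Z) [IsPreimmersion b]
    (p : A) (q : B) (h : b q = a p) :
    ∃ e : B.residueField q ≃+* A.residueField p,
      ∀ s : Γ(Z, ⊤), e ((B.Γevaluation q).hom (b.appTop.hom s)) = (A.Γevaluation p).hom (a.appTop.hom s) := by
  have aux : ∀ {A : Scheme.{u}} (a : A ⟶ Z) [IsPreimmersion a] (p : A) (z : Z), a p = z →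
      ∃ e : Z.residueField z ≃+* A.residueField p,
        ∀ s : Γ(Z, ⊤), e ((Z.Γevaluation z).hom s) = (A.Γevaluation p).hom (a.appTop.hom s) := by
    intro A a _ p z hz
    subst hz
    refine ⟨RingEquiv.ofBijective (a.residueFieldMap p).hom ⟨(a.residueFieldMap p).hom.injective, fun t => ?_⟩,
      fun s => Scheme.Γevaluation_naturality_apply a p s⟩
    obtain ⟨t', rfl⟩ := A.residue_surjective p t
    obtain ⟨s, rfl⟩ := a.stalkMap_surjective p t'
    exact ⟨Z.residue (a p) s, by rw [← CommRingCat.comp_apply, Scheme.residue_residueFieldMap]; rfl⟩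
  obtain ⟨eb, heb⟩ := aux b q (b q) rfl
  obtain ⟨ea, hea⟩ := aux a p (b q) h.symm
  exact ⟨eb.symm.trans ea, fun s => by rw [RingEquiv.trans_apply, ← heb, eb.symm_apply_apply, hea]⟩

variable {R : Type u} [CommRing R] [IsDomain R] [IsDiscreteValuationRing R]

/-- The local ring of the closure of a closed point of the generic fibre. -/
theorem exists_branch {X : Over (Spec (CommRingCat.of R))} [IsProper X.hom]
    {C : Scheme.{u}} [C.Over (Spec (CommRingCat.of (FractionRing R)))] {iX : C ⟶ X.left}
    (hiX : IsPullback iX (C ↘ Spec (CommRingCat.of (FractionRing R))) X.hom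
      (Spec.map (CommRingCat.ofHom (algebraMap R (FractionRing R)))))
    {x : X.left} {P : C} (hP : IsClosed ({P} : Set C))
    (hPx : closure ({iX.base P} : Set X.left) ∩ Models.specialFibreSet R X = {x}) :
    ∃ (S : Type u) (_ : CommRing S) (_ : IsDomain S) (_ : IsLocalRing S) (_ : Algebra R S) (_ : Module.Finite R S),
      Function.Injective (algebraMap R S) ∧
      Module.finrank (FractionRing R) (C.residueField P) = Module.finrank R S ∧
      ∃ θ : X.left.presheaf.stalk x →+* S, IsLocalHom θ ∧
        ∀ r, θ (Models.stalkHom R X x r) = algebraMap R S r := by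
  set K := FractionRing R
  set f := C ↘ Spec (CommRingCat.of K)
  set v := Spec.map (CommRingCat.ofHom (algebraMap R K))
  haveI : IsPreimmersion v := IsPreimmersion.of_isLocalization (nonZeroDivisors R)
  haveI : IsPreimmersion iX := MorphismProperty.of_isPullback (P := @IsPreimmersion) hiX.flip ‹_›
  have hvc : ∀ a, v a ≠ closedPoint R := fun a h => by
    obtain ⟨ϖ, hϖ⟩ := IsDiscreteValuationRing.exists_irreducible R
    have h1 : (algebraMap R K ϖ) ∈ (a : PrimeSpectrum K).asIdeal := by
      have h2 : ϖ ∈ (v a : PrimeSpectrum R).asIdeal := by rw [h]; exact hϖ.not_isUnit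
      exact h2
    exact (a : PrimeSpectrum K).isPrime.ne_top (Ideal.eq_top_of_isUnit_mem _ h1
      (Ne.isUnit fun h3 => hϖ.ne_zero (IsFractionRing.injective R K (h3.trans (map_zero _).symm))))
  set y := iX P
  have hy : X.hom y ≠ closedPoint R := by
    show X.hom (iX P) ≠ _
    rw [← Scheme.Hom.comp_apply, hiX.w, Scheme.Hom.comp_apply]
    exact hvc _
  -- the closure of the point
  set Z : Closeds X.left := ⟨closure {y}, isClosed_closure⟩
  set J := Scheme.IdealSheafData.vanishingIdeal Z
  set j := J.subschemeι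
  have hrange : Set.range j = closure ({y} : Set X.left) :=
    J.range_subschemeι.trans (by rw [Scheme.IdealSheafData.coe_support_vanishingIdeal]; rfl)
  haveI : IsReduced J.subscheme := DevissLib.isReduced_vanishingIdeal' Z
  obtain ⟨w₀, hw₀⟩ : y ∈ Set.range j := hrange.ge (subset_closure rfl)
  have hgen : closure ({w₀} : Set J.subscheme) = Set.univ := by
    rw [j.isEmbedding.isInducing.closure_eq_preimage_closure_image, Set.image_singleton, hw₀, ← hrange]
    exact Set.preimage_range j
  haveI : IrreducibleSpace J.subscheme :=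
    { toPreirreducibleSpace := ⟨by rw [← hgen]; exact isIrreducible_singleton.closure.isPreirreducible⟩
      toNonempty := ⟨w₀⟩ }
  haveI : IsIntegral J.subscheme := isIntegral_of_irreducibleSpace_of_isReduced _
  have hx : x ∈ closure ({y} : Set X.left) ∧ X.hom x = closedPoint R := hPx.ge rfl
  obtain ⟨w₁, hw₁⟩ : x ∈ Set.range j := hrange.ge hx.1
  have hpts : ∀ w, w = w₀ ∨ w = w₁ := by
    intro w
    have hwy : j w ∈ closure ({y} : Set X.left) := hrange.le ⟨w, rfl⟩
    by_cases hw : X.hom (j w) = closedPoint R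
    · refine Or.inr (j.isEmbedding.injective ?_)
      rw [hw₁]
      exact hPx.le ⟨hwy, hw⟩
    · refine Or.inl (j.isEmbedding.injective ?_)
      obtain ⟨Q, hQ⟩ : j w ∈ Set.range iX := by
        have hgen' : X.hom (j w) ∈ Set.range v := by
          refine ⟨closedPoint K, PrimeSpectrum.ext ?_⟩
          have hbot : (v (closedPoint K) : PrimeSpectrum R).asIdeal = ⊥ := by
            show (maximalIdeal K).comap (algebraMap R K) = ⊥
            rw [maximalIdeal_eq_bot, ← RingHom.ker_eq_comap_bot, RingHom.ker_eq_bot_iff_eq_zero]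
            exact fun r hr => IsFractionRing.injective R K (hr.trans (map_zero _).symm)
          rw [hbot]
          by_contra hne
          exact hw (PrimeSpectrum.ext ((IsPrime.to_maximal_ideal (Ne.symm hne)).eq_of_le
            (maximalIdeal.isMaximal R).ne_top (le_maximalIdeal (X.hom (j w) : PrimeSpectrum R).isPrime.ne_top)))
        obtain ⟨c, hc⟩ : j w ∈ Set.range (pullback.fst X.hom v) := by
          rw [Scheme.Pullback.range_fst]; exact hgen'
        exact ⟨hiX.isoPullback.inv c, by rw [← Scheme.Hom.comp_apply, hiX.isoPullback_inv_fst]; exact hc⟩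
      have hPQ : P ⤳ Q := iX.isEmbedding.isInducing.specializes_iff.1 (by
        rw [hQ]; exact specializes_iff_mem_closure.2 hwy)
      have hQP : Q = P := hP.closure_eq.le (specializes_iff_mem_closure.1 hPQ)
      rw [hw₀, ← hQ, hQP]
  -- finiteness
  haveI : Finite J.subscheme := Finite.of_surjective (fun b : Bool => if b then w₀ else w₁) fun w =>
    (hpts w).elim (fun h => ⟨true, h.symm⟩) (fun h => ⟨false, h.symm⟩)
  set w := j ≫ X.hom
  haveI : LocallyQuasiFinite w := LocallyQuasiFinite.of_finite_preimage_singleton w fun _ => Set.toFinite _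
  haveI : IsFinite w := IsFinite.of_isProper_of_locallyQuasiFinite w
  haveI : IsAffine J.subscheme := isAffine_of_isAffineHom w
  let S := Γ(J.subscheme, ⊤)
  letI : Algebra R S := (Coh.toGlobal w).toAlgebra
  haveI : Module.Finite R S := RingHom.finite_algebraMap.1
    ((RingHom.Finite.comp w.finite_appTop (RingHom.Finite.of_surjective _
      (ConcreteCategory.bijective_of_isIso (Scheme.ΓSpecIso (CommRingCat.of R)).inv).2)))
  have hW := isAffineOpen_top J.subscheme
  have hne₀ : w₀ ≠ w₁ := fun h => hy (by rw [← hw₀, h, hw₁]; exact hx.2)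
  -- local
  let q₁ := hW.primeIdealOf ⟨w₁, trivial⟩
  have hmax : ∀ q : Ideal S, q.IsMaximal → q = q₁.asIdeal := by
    intro q hq
    have hcl : IsClosed ({⟨q, hq.isPrime⟩} : Set (PrimeSpectrum S)) :=
      (PrimeSpectrum.isClosed_singleton_iff_isMaximal _).2 hq
    rcases hpts (hW.fromSpec ⟨q, hq.isPrime⟩) with h | h
    · exfalso
      haveI : IsIso hW.fromSpec := by rw [IsAffineOpen.fromSpec_top]; infer_instance
      have hc0 : IsClosed ({w₀} : Set J.subscheme) := by
        rw [← h, ← Set.image_singleton]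
        exact hW.fromSpec.homeomorph.isClosedMap _ hcl
      have : w₁ ∈ ({w₀} : Set J.subscheme) := by rw [← hc0.closure_eq, hgen]; trivial
      exact hne₀ this.symm
    · have : (⟨q, hq.isPrime⟩ : PrimeSpectrum S) = q₁ := hW.fromSpec.isOpenEmbedding.injective
        (h.trans (hW.fromSpec_primeIdealOf ⟨w₁, trivial⟩).symm)
      exact congrArg PrimeSpectrum.asIdeal this
  haveI : IsLocalRing S := by
    obtain ⟨q, hq⟩ := Ideal.exists_maximal S
    exact IsLocalRing.of_unique_max_ideal ⟨q, hq, fun q' hq' => (hmax q' hq').trans (hmax q hq).symm⟩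
  have hq₁ : q₁.asIdeal = maximalIdeal S := (hmax _ (maximalIdeal.isMaximal S)).symm
  letI := TopCat.Presheaf.algebra_section_stalk J.subscheme.presheaf (⟨w₁, trivial⟩ : (⊤ : J.subscheme.Opens))
  haveI := hW.isLocalization_stalk ⟨w₁, trivial⟩
  let E : S ≃ₐ[S] J.subscheme.presheaf.stalk w₁ := IsLocalization.atUnits S q₁.asIdeal.primeCompl
    (fun a ha => by
      show IsUnit a
      by_contra hu
      exact ha (hq₁.ge hu))
  subst hw₁
  let θ : X.left.presheaf.stalk (j w₁) →+* S := E.symm.toRingEquiv.toRingHom.comp (j.stalkMap w₁).hom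
  have hθ : ∀ r, θ (Models.stalkHom R X (j w₁) r) = algebraMap R S r := fun r => by
    have h1 : j.stalkMap w₁ (Models.stalkHom R X (j w₁) r) = algebraMap S (J.subscheme.presheaf.stalk w₁) (algebraMap R S r) := by
      show j.stalkMap w₁ (X.left.presheaf.germ ⊤ (j w₁) trivial (Coh.toGlobal X.hom r)) = _
      rw [Scheme.Hom.germ_stalkMap_apply]
      rfl
    show E.symm (j.stalkMap w₁ (Models.stalkHom R X (j w₁) r)) = _
    rw [h1, ← E.commutes, E.symm_apply_apply]
    rfl
  -- injective
  have hinj : Function.Injective (algebraMap R S) := by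
    obtain ⟨ϖ, hϖ⟩ := IsDiscreteValuationRing.exists_irreducible R
    rw [injective_iff_map_eq_zero]
    intro r hr
    by_contra hr0
    obtain ⟨k, u, rfl⟩ := IsDiscreteValuationRing.eq_unit_mul_pow_irreducible hr0 hϖ
    rw [map_mul, map_pow] at hr
    have h0 : algebraMap R S ϖ = 0 :=
      eq_zero_of_pow_eq_zero ((mul_eq_zero.1 hr).resolve_left (u.isUnit.map _).ne_zero)
    have hmem : ¬ Models.stalkHom R X (j w₀) ϖ ∈ (closedPoint (X.left.presheaf.stalk (j w₀))).asIdeal := fun hm => by
      refine hy ?_
      have h2 := (VertIntLib.pi_mem_iff (j w₀) _ hϖ.maximalIdeal_eq).1 hm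
      rwa [show EquidimLib.stalkPt (j w₀) (closedPoint _) = j w₀ from Scheme.fromSpecStalk_closedPoint, hw₀] at h2
    refine hmem ?_
    intro hu
    have h1 : j.stalkMap w₀ (Models.stalkHom R X (j w₀) ϖ) = 0 := by
      show j.stalkMap w₀ (X.left.presheaf.germ ⊤ (j w₀) trivial (Coh.toGlobal X.hom ϖ)) = _
      rw [Scheme.Hom.germ_stalkMap_apply]
      show J.subscheme.presheaf.germ ⊤ w₀ trivial (algebraMap R S ϖ) = 0
      rw [h0, map_zero]
    have h3 := hu.map (j.stalkMap w₀).hom
    rw [show (j.stalkMap w₀).hom (Models.stalkHom R X (j w₀) ϖ) = 0 from h1] at h3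
    exact not_isUnit_zero h3
  refine ⟨S, inferInstance, inferInstance, inferInstance, inferInstance, inferInstance, hinj, ?_, θ, ?_, hθ⟩
  · -- the residue field
    obtain ⟨e, he⟩ := exists_residueEquiv iX j P w₀ hw₀
    let L := C.residueField P
    let χ : S →+* L := e.toRingHom.comp (J.subscheme.Γevaluation w₀).hom
    letI : Algebra S L := χ.toAlgebra
    letI : Algebra R L := ((Curv2.resMap K C P).comp (algebraMap R K)).toAlgebra
    haveI : IsScalarTower R K L := IsScalarTower.of_algebraMap_eq' rfl
    haveI : IsScalarTower R S L := IsScalarTower.of_algebraMap_eq fun r => by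
      show Curv2.resMap K C P (algebraMap R K r) = e ((J.subscheme.Γevaluation w₀).hom (j.appTop.hom (Coh.toGlobal X.hom r)))
      rw [he]
      show (C.Γevaluation P).hom (Coh.toGlobal f (algebraMap R K r)) = _
      congr 1
      have h1 : iX.appTop.hom (X.hom.appTop.hom ((Scheme.ΓSpecIso (CommRingCat.of R)).inv.hom r)) =
          f.appTop.hom (v.appTop.hom ((Scheme.ΓSpecIso (CommRingCat.of R)).inv.hom r)) := by
        rw [← CommRingCat.comp_apply, ← Scheme.Hom.comp_appTop, hiX.w, Scheme.Hom.comp_appTop, CommRingCat.comp_apply]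
      refine Eq.trans ?_ h1.symm
      show f.appTop.hom ((Scheme.ΓSpecIso (CommRingCat.of K)).inv.hom (algebraMap R K r)) = _
      congr 1
      exact congrArg (fun φ => φ.hom r) (Scheme.ΓSpecIso_inv_naturality (CommRingCat.ofHom (algebraMap R K)))
    have hw₀gen : w₀ = genericPoint J.subscheme :=
      IsGenericPoint.eq (show IsGenericPoint w₀ Set.univ from hgen) (genericPoint_spec _)
    have hq₀ : (hW.primeIdealOf ⟨w₀, trivial⟩).asIdeal = ⊥ := by
      refine le_bot_iff.1 ?_
      have h1 : hW.fromSpec ⟨⊥, Ideal.isPrime_bot⟩ ⤳ w₀ := by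
        have h := ((PrimeSpectrum.le_iff_specializes ⟨⊥, Ideal.isPrime_bot⟩ (hW.primeIdealOf ⟨w₀, trivial⟩)).1
          bot_le).map hW.fromSpec.continuous
        rwa [hW.fromSpec_primeIdealOf] at h
      have h2 : hW.fromSpec ⟨⊥, Ideal.isPrime_bot⟩ = w₀ :=
        (h1.antisymm ((show IsGenericPoint w₀ Set.univ from hgen).specializes trivial)).eq
      exact (congrArg PrimeSpectrum.asIdeal (hW.fromSpec.isOpenEmbedding.injective
        ((hW.fromSpec_primeIdealOf ⟨w₀, trivial⟩).trans h2.symm))).le
    letI := TopCat.Presheaf.algebra_section_stalk J.subscheme.presheaf (⟨w₀, trivial⟩ : (⊤ : J.subscheme.Opens))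
    haveI h0 := hW.isLocalization_stalk ⟨w₀, trivial⟩
    haveI : IsFractionRing S (J.subscheme.presheaf.stalk w₀) := by
      show IsLocalization (nonZeroDivisors S) _
      convert h0 using 1
      ext a
      rw [mem_nonZeroDivisors_iff_ne_zero]
      show a ≠ 0 ↔ a ∉ (hW.primeIdealOf ⟨w₀, trivial⟩).asIdeal
      rw [hq₀, Ideal.mem_bot]
    have hfield : IsField (J.subscheme.presheaf.stalk w₀) := by
      letI := IsFractionRing.toField S (K := J.subscheme.presheaf.stalk w₀)
      exact Field.toIsField _
    have hb : Function.Bijective (e.toRingHom.comp (J.subscheme.residue w₀).hom) := by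
      refine e.bijective.comp ⟨(injective_iff_map_eq_zero _).2 fun a ha => ?_, J.subscheme.residue_surjective w₀⟩
      have h1 : a ∈ maximalIdeal (J.subscheme.presheaf.stalk w₀) := IsLocalRing.residue_eq_zero_iff a |>.1 ha
      rw [IsLocalRing.isField_iff_maximalIdeal_eq.1 hfield] at h1
      exact h1
    let φ : J.subscheme.presheaf.stalk w₀ ≃ₐ[S] L :=
      AlgEquiv.ofRingEquiv (f := RingEquiv.ofBijective _ hb) fun a => rfl
    haveI : IsFractionRing S L := IsLocalization.isLocalization_of_algEquiv (nonZeroDivisors S) φ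
    exact finrank_fraction (R := R) (K := K) (S := S) (L := L) hinj
  · refine ⟨fun a ha => (isUnit_map_iff (j.stalkMap w₁).hom a).1 ?_⟩
    have h := ha.map E.toRingEquiv.toRingHom
    rwa [show E.toRingEquiv.toRingHom (θ a) = (j.stalkMap w₁).hom a from E.apply_symm_apply _] at h

theorem main [HenselianLocalRing R] (hk : IsAlgClosed (IsLocalRing.ResidueField R))
    (C : Scheme.{u}) [C.Over (Spec (CommRingCat.of (FractionRing R)))]
    (hC : Curve.IsSmoothProperCurve (FractionRing R) C (C ↘ Spec (CommRingCat.of (FractionRing R))))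
    (X : Over (Spec (CommRingCat.of R))) [IsIntegral X.left]
    (hreg : ∀ y : X.left, IsRegularLocalRing (X.left.presheaf.stalk y)) [IsProper X.hom] [Flat X.hom]
    (iX : C ⟶ X.left)
    (hiX : IsPullback iX (C ↘ Spec (CommRingCat.of (FractionRing R))) X.hom
      (Spec.map (CommRingCat.ofHom (algebraMap R (FractionRing R)))))
    (x : X.left) {n : ℕ} (Γ : Fin n → ArSurf.VertComp R X)
    (hinj : Function.Injective fun i => Set.range ((Γ i).ι.base : (Γ i).curve.left → X.left))
    (hΓ : ∀ Z ∈ Models.fibreComponents R X,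
      x ∈ Z ↔ ∃ i, Set.range ((Γ i).ι.base : (Γ i).curve.left → X.left) = Z)
    (P : C) (hP : IsClosed ({P} : Set C))
    (hPx : closure ({iX.base P} : Set X.left) ∩ Models.specialFibreSet R X = {x}) :
    ∃ c : Fin n → ℕ, (∀ i, 1 ≤ c i) ∧
      Module.finrank (FractionRing R) (C.residueField P) = ∑ i, c i * Models.mult R X (Γ i) := by
  haveI := hk
  have hη : genericPoint X.left ∈ Set.range iX := by
    obtain ⟨c, hc⟩ : genericPoint X.left ∈ Set.range (pullback.fst X.hom
        (Spec.map (CommRingCat.ofHom (algebraMap R (FractionRing R))))) := by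
      rw [Scheme.Pullback.range_fst, Set.mem_preimage]
      rw [show X.hom (genericPoint X.left) = RelMinSmLib.eta (R := R) from VertIntLib.genericPoint_over]
      exact ⟨_, rfl⟩
    exact ⟨hiX.isoPullback.inv c, by rw [← Scheme.Hom.comp_apply, hiX.isoPullback_inv_fst]; exact hc⟩
  have hd := fibreDim_le_one (X := X) hC.2.2.2.le hiX hη
  obtain ⟨ϖ, hϖ⟩ := IsDiscreteValuationRing.exists_irreducible R
  obtain ⟨g, hgm, hassoc⟩ := exists_factor hreg hd hϖ x Γ hinj hΓ
  obtain ⟨S, _, _, _, _, _, hSinj, hrank, θ, hθl, hθ⟩ := exists_branch hiX hP hPx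
  haveI := hθl
  obtain ⟨c, hc1, hc⟩ := finrank_eq_sum hSinj (fun i => θ (g i)) (fun i => Models.mult R X (Γ i))
    (fun i => fun hu => hgm i (isUnit_of_map_unit θ _ hu)) hϖ (by
      have := hassoc.map θ.toMonoidHom
      simpa [hθ, map_prod] using this)
  exact ⟨c, hc1, hrank.trans hc⟩

end PointMultLib
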